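import Cfsg.Agent.Chev.Cert
import Cfsg.Prelude.Def_ChevB2

/-! Packed tables for type B2 (generated). -/

set_option autoImplicit false
set_option maxRecDepth 100000

namespace CfsgLib.Chev.B2

/-- Cartan integers, packed -/
def cartTree : NTree := .node (.leaf 0xa8a6a686) (.leaf 0x897a6978)

/-- coroots, packed -/
def coTree : NTree := .node (.node (.node (.leaf 0x77) (.leaf 0x98)) (.node (.leaf 0x87) (.leaf 0xa9))) (.node (.node (.leaf 0x67) (.leaf 0x89)) (.node (.leaf 0x78) (.leaf 0x99)))

/-- chains, packed -/
def chTree : NTree := .node (.node (.node (.leaf 0x303001408000000000000000000000000000) (.leaf 0x141c0000000000000000000c0c00000)) (.node (.leaf 0x60b41c00205000000000006034080000000080400000) (.leaf 0x82000000a10c180060500000282d03))) (.node (.node (.leaf 0xa08c180000000081280d030000000060100000000000) (.leaf 0x608000001843070000000000000181182302)) (.node (.leaf 0x506000000000000000000030200000000000) (.leaf 0x30700141800000)))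

/-- packed tables -/
def tab : Tab where
  rank := 2
  nroots := 8
  cart := cartTree
  co := coTree
  ch := chTree
  width := 22

theorem tab_fitsOK : fitsOK Cfsg.Lie.chevB2 tab = true := by decide +kernel

theorem tab_fits : tab.Fits Cfsg.Lie.chevB2 := fits_of_ok _ _ tab_fitsOK

end CfsgLib.Chev.B2
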