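import Cfsg.Agent.Chev.Checks
import Cfsg.Agent.Chev.Tab.B2

/-! Combinatorial data for type B2 (generated). -/

set_option autoImplicit false
set_option maxRecDepth 100000

namespace CfsgLib.Chev.B2

/-- combinatorial data -/
def data : Data where
  tab := tab
  npos := 4
  simp8 := 0x405
  refl := .node (.leaf 0x406020700050103) (.leaf 0x705060304010200)
  sgn := .node (.leaf 0xff) (.leaf 0x5a)
  height := 0x40000000214000000011400000001040000000013fffffffff3ffffffff03fffffffef3fffffffdf
  shift := 274877906944
  reps := [6, 7]
  path := 0x11010021020031030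
  basePairs := [(6, 7), (6, 5), (6, 3), (7, 6), (7, 4), (7, 2)]
  stabPaths := [(6, 0x10000010000010), (7, 0x11000011000011000)]

end CfsgLib.Chev.B2
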