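import Cfsg.Agent.Chev.Cert
import Cfsg.Prelude.Def_ChevD4

/-! Packed tables for type D4 (generated). -/

set_option autoImplicit false
set_option maxRecDepth 100000

namespace CfsgLib.Chev.D4

/-- Cartan integers, packed -/
def cartTree : NTree := .node (.node (.leaf 0x89999a777788889999677778) (.leaf 0x8997789977a8869977899778)) (.node (.leaf 0x978897899a77996778978897) (.leaf 0x89797897978a689797897978))

/-- coroots, packed -/
def coTree : NTree := .node (.node (.node (.node (.node (.leaf 0x7767) (.leaf 0x8998)) (.node (.leaf 0x7878) (.leaf 0))) (.node (.node (.leaf 0x8877) (.leaf 0x9899)) (.node (.leaf 0x9888) (.leaf 0)))) (.node (.node (.node (.leaf 0x8777) (.leaf 0x8889)) (.node (.leaf 0x8788) (.leaf 0))) (.node (.node (.leaf 0x7778) (.leaf 0x9999)) (.node (.leaf 0x8898) (.leaf 0))))) (.node (.node (.node (.node (.leaf 0x7777) (.leaf 0x9998)) (.node (.leaf 0x8878) (.leaf 0))) (.node (.node (.leaf 0x8887) (.leaf 0x8999)) (.node (.leaf 0x8988) (.leaf 0)))) (.node (.node (.node (.leaf 0x7877) (.leaf 0x8899)) (.node (.leaf 0x7888) (.leaf 0))) (.node (.node (.leaf 0x8778) (.leaf 0x99a9)) (.node (.leaf 0x9898)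 (.leaf 0)))))

/-- chains, packed -/
def chTree : NTree := .node (.node (.node (.node (.node (.leaf 0xc2a84d0860e00282b0460740800000000000000000000000000000000000000) (.leaf 0x3180014580000000000000312000c3e8700000143000000000c1800504)) (.node (.leaf 0x62c0000051300000187000000c300050a00141c000000000018200000140400000) (.leaf 0))) (.node (.node (.leaf 0x6240018730d000c280000000141800000a0940c000000014040000000000000000) (.leaf 0x5180000018b800628000003130000028850d00000285b08)) (.node (.leaf 0x28b800a2a00000512001440000000000000030a000c200000060a00181800) (.leaf 0)))) (.node (.node (.node (.leaf 0xa20c3400000616c200050600000282800a04000003010000000000000000000000) (.leaf 0x18bb1662ac5000000000000000000000000050aa1342283800)) (.node (.leaf 0x14568a0000000028850f00000000000000001843070000000030360400000000) (.leaf 0))) (.node (.node (.leaf 0xa2944c000000000000030c61600284d08000000000000000018130100000000000) (.leaf 0xc600000062cc5400000000c4e89000a1d4340050a)) (.node (.leaf 0x1460000000014500000000000188b100000000050ca160000030600000000302) (.leaf 0))))) (.node (.node (.node (.node (.leaf 0x61e0018630b000c1e8300000000282503000002808000000000000000000000000)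 (.leaf 0xa3145c0000000000000000622c400050ea1a0000000000000183305)) (.node (.leaf 0xa2e00000000a260000030e61a00000000a13420000000000018280000000180800) (.leaf 0))) (.node (.node (.leaf 0xc4988b1061e000000000000000000000000282d04a074080000000000000000) (.leaf 0xa3000000317000c500000062600288d0e00000286309)) (.node (.leaf 0x517a2c00000000a254440000000000000000614c2400000000c1582000) (.leaf 0)))) (.node (.node (.node (.leaf 0xa22c3800000618c2400000a0c00000505001408000006020000000000000000000) (.leaf 0x18c0000000018b3150000018980000000287800a1942c00507)) (.node (.leaf 0x14580051400000288800a1e000000000000018480060e00000304000c0800000) (.leaf 0))) (.node (.node (.leaf 0x62a0028980000000186800000c2e85000a0e0000000000000181800a0200000000) (.leaf 0x18bd16a2ac5000512622c4287800)) (.node (.leaf 0x18c000001454000000000018900061e0028680000142c0000060c00000503) (.leaf 0)))))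

/-- packed tables -/
def tab : Tab where
  rank := 4
  nroots := 24
  cart := cartTree
  co := coTree
  ch := chTree
  width := 11

theorem tab_fitsOK : fitsOK Cfsg.Lie.chevD4 tab = true := by decide +kernel

theorem tab_fits : tab.Fits Cfsg.Lie.chevD4 := fits_of_ok _ _ tab_fitsOK

end CfsgLib.Chev.D4
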