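import Cfsg.Agent.Chev.Checks
import Cfsg.Agent.Chev.Tab.D4

/-! Combinatorial data for type D4 (generated). -/

set_option autoImplicit false
set_option maxRecDepth 100000

namespace CfsgLib.Chev.D4

/-- combinatorial data -/
def data : Data where
  tab := tab
  npos := 12
  simp8 := 0xc0d0e12
  refl := .node (.node (.leaf 0x1711100f0e05161514130d0c0b0a04030201120908070600) (.leaf 0x1714131615120f0e11100a0c0b0d07060908050201040300)) (.node (.leaf 0x161715141213110d0c09100f08070e0b0a06040503020001) (.leaf 0x17151613141210110e0f0d0b0c0a08090607050304010200))
  sgn := .node (.node (.leaf 0x7c3e0) (.leaf 0x6324c6)) (.node (.leaf 0x887e11) (.leaf 0x52994a))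
  height := 0x4000001211400000111140000011104000001101400000110040000010004000000111400000011040000001014000000100400000001040000000013fffffffff3ffffffff03fffffff003ffffffeff3ffffffef03ffffffeef3ffffff0003fffffef003fffffeeff3fffffeef03fffffeeef3fffffedef
  shift := 274877906944
  reps := [23]
  path := 0x11023022033041020033032043041041053052051061062072050060070072082091
  basePairs := [(23, 22), (23, 18), (23, 13), (23, 12), (23, 9)]
  stabPaths := [(23, 0x13012023000010023022033000000013012000013012023010010023022033000)]

end CfsgLib.Chev.D4
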