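import Cfsg.Agent.Chev.Checks
import Cfsg.Agent.Chev.Tab.E6

/-! Combinatorial data for type E6 (generated). -/

set_option autoImplicit false
set_option maxRecDepth 100000

namespace CfsgLib.Chev.E6

/-- combinatorial data -/
def data : Data where
  tab := tab
  npos := 36
  simp8 := 0x2425272a2e38
  refl := .node (.node (.node (.leaf 0x47464544433736353433322d2c2b2a0f4241403f3e3d31302f2e3c3b3a39292827262524232221201f1e0e0d0c0b191817160a0908070605381d1c1b1a1514131211100403020100) (.leaf 0x47464445434142403f3d3e3c3a3b3938363735343233312f302e2d2b2c2a2927282422262125231f201e1d1b1c1a191718161415131210110f0e0c0d0b090a080705060402030100)) (.node (.leaf 0x47464241404544433f3e3d3c3b3a383937363531302f3433322e2928271d2d2c2b2625242322211c1b1a2a201f1e191514131817161211100e0f0d0c0b0a09080403020706050100) (.leaf 0))) (.node (.node (.leaf 0x46474544434241403c3b3a3f3e3d39383736352d2c2b292827193433322a31302f2625242322211817161d1514132e201f1e1c1b1a1211100f0e0a09080d0c0b0706050403020001) (.leaf 0x47464543444240413e3f3d3b3c3a393837353633343230312f2e2c2d2b2a282927252623242122201e1f1d1c1a1b191816171513141112100f0e0d0b0c0a08090607050304020100)) (.node (.leaf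 0x4745464443423f3e41403d3c3b393a3837343336353231302e2f2d2c2a2b262520292824231f1e2722211c1d1b1a181917161512111413100f0d0e0c0b0a07060908050403010200) (.leaf 0)))
  sgn := .node (.node (.node (.leaf 0x1fc3c003c3f8000) (.leaf 0x244889113c88911224)) (.node (.leaf 0x38021c0781e038401c) (.leaf 0))) (.node (.node (.leaf 0x80e01c4381c2380701) (.leaf 0x129052225a444a0948)) (.node (.leaf 0x43046088e7110620c2) (.leaf 0)))
  height := 0x4000122321400011232140001122214000112211400011221040001112214000111211400011121040001111114000111110400011110040001011114000101110400010110040001010004000100000400001122140000112114000011210400001111140000111104000011100400001011140000101104000010100400001000040000011114000001110400000110040000010004000000111400000011040000001004000000011400000001040000000013fffffffff3ffffffff03fffffffef3fffffff003ffffffef03ffffffeef3ffffff0003fffffef003fffffeef03fffffeeef3fffff00003ffffeff003ffffefef03ffffefeef3ffffeef003ffffeeef03ffffeeeef3ffffeedf03ffffeedef3ffffeeddf3ffff000003fffeff0003fffefef003fffefeef03fffefeeef3fffeeef003fffeeeef03fffeeeeef3fffeeedf03fffeeedef3fffeeeddf3fffeeddf03fffeeddef3fffeedddf3fffeedcdf3fffeddcdf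
  shift := 274877906944
  reps := [71]
  path := 0x110230340450320440550530650740610750840930a20400540650630750840720850940a30710850940a30820950a40930a50a40b50b40c40b30c30d30b20c20d20e20b10c10d10e10d20e20f20f31031140b00c00d00e00f00e00f0100103113124112122134143151
  basePairs := [(71, 70), (71, 60), (71, 25)]
  stabPaths := [(71, 0x13024035022034045043055064000015024033042030044055053065074062075084093010025034043022035044033045044055054064053063073052062072082000013024035022034045043055064050060070080090030044055053065074062075084093000)]

end CfsgLib.Chev.E6
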