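import Cfsg.Agent.Chev.Checks
import Cfsg.Agent.Chev.Tab.F4

/-! Combinatorial data for type F4 (generated). -/

set_option autoImplicit false
set_option maxRecDepth 100000

namespace CfsgLib.Chev.F4

/-- combinatorial data -/
def data : Data where
  tab := tab
  npos := 24
  simp8 := 0x18191b21
  refl := .node (.node (.leaf 0x2f2e2d28201f1e2c2726251d1c1b0e2b2a292423221a19181716150d0c0b060504211413120a09080311100f07020100) (.leaf 0x2f2d2e2c2a2b2928262725242223211f201e1d1b1c18161a151917131412110f100e0c0d0b0a08090706040503010200)) (.node (.leaf 0x2f2e2b2c2d2a292728242326252122201a191d1c141f1e181711101b131216150f0d0e0a090c0b070806050203040100) (.leaf 0x2e2f2d2c2b292a2827252623242221201e1f1c1d1b191a1718151614121310110f0e0d0b0c090a080705060403020001))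
  sgn := .node (.node (.leaf 0x1ee3f81fc778) (.leaf 0x488913c89112)) (.node (.leaf 0x1164fe7f2688) (.leaf 0x8450a5a50a21))
  height := 0x4000002432400000243140000024214000002321400000222140000022114000002210400000132140000012214000001211400000121040000011114000001110400000110040000010004000000221400000021140000002104000000111400000011040000001004000000011400000001040000000013fffffffff3ffffffff03fffffffef3fffffff003ffffffef03ffffffeef3ffffffdf03ffffffdef3ffffffddf3ffffff0003fffffef003fffffeef03fffffeeef3fffffedf03fffffedef3fffffeddf3fffffecdf3fffffddf03fffffddef3fffffdddf3fffffdcdf3fffffdbdf3fffffdbcf3fffffdbce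
  shift := 274877906944
  reps := [44, 47]
  path := 0x130220000310420530100210320430410530620710400520630500630720610730720830820920810920a30910a10b20800900a20b30b10c30d20e10a00b00c20f00d10e20f3
  basePairs := [(44, 47), (44, 40), (44, 32), (44, 29), (44, 14), (44, 6), (47, 46), (47, 44), (47, 41), (47, 37), (47, 23), (47, 18)]
  stabPaths := [(44, 0x13022000031042053000011022033031043052061000012023000013022021033032043042052031042053051061072000011022033031043052061000013022000031042053), (47, 0x12000021032000010021032000041011022031030042010050020032051021062000032012041052000041021032040050062010071021032041050030042050051062000)]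

end CfsgLib.Chev.F4
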