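import Cfsg.Agent.Chev.Cert
import Cfsg.Prelude.Def_ChevG2

/-! Packed tables for type G2 (generated). -/

set_option autoImplicit false
set_option maxRecDepth 100000

namespace CfsgLib.Chev.G2

/-- Cartan integers, packed -/
def cartTree : NTree := .node (.leaf 0x8b97a5b69758) (.leaf 0x97897a697897)

/-- coroots, packed -/
def coTree : NTree := .node (.node (.node (.node (.leaf 0x67) (.leaf 0xb9)) (.node (.leaf 0x87) (.leaf 0))) (.node (.node (.leaf 0x56) (.leaf 0x99)) (.node (.leaf 0x98) (.leaf 0)))) (.node (.node (.node (.leaf 0x77) (.leaf 0xba)) (.node (.leaf 0x78) (.leaf 0))) (.node (.node (.leaf 0x57) (.leaf 0xa9)) (.node (.leaf 0x89) (.leaf 0))))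

/-- chains, packed -/
def chTree : NTree := .node (.node (.node (.node (.leaf 0xc180000060800000503000000000000014080000000000000000000000000000000000000000000000000) (.leaf 0xe1800000000001c33050000000018630a610000007070000000000020e8140000000141e82b03)) (.node (.leaf 0x50761342800707412000001070000000000000000181503a080000000000040b018000004080000000000000000) (.leaf 0))) (.node (.node (.leaf 0x604c1584d01a08c200000000000381605000405020000000000000000000000702000003808000000000000000000000000) (.leaf 0xc30000000000000030a000000000000014200000000000000506)) (.node (.leaf 0x14300000000000000000000002848000000000000000000000000000001828000000000000000000000302) (.leaf 0)))) (.node (.node (.node (.leaf 0x1838000000000000060a000000000000028180000000000000a0200000000000000000000000000000000000000000) (.leaf 0x10c000000858000000000000000000086609001c2d0400000000186509a0b42d84504)) (.node (.leaf 0x2858000000000000000000000508000000000000000000000000000000304000000000000000000000060200000000) (.leaf 0))) (.node (.node (.leaf 0x60d4228500000000000106c1000000000000000835016074140000000000380a03000000000000004040000000000000000) (.leaf 0x616000000000000018500000142400000a0e00000000))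 (.node (.leaf 0xe1600085a0a0000000050ba14c24000000000000000000000383000e0d8118330460600000000) (.leaf 0))))

/-- packed tables -/
def tab : Tab where
  rank := 2
  nroots := 12
  cart := cartTree
  co := coTree
  ch := chTree
  width := 33

theorem tab_fitsOK : fitsOK Cfsg.Lie.chevG2 tab = true := by decide +kernel

theorem tab_fits : tab.Fits Cfsg.Lie.chevG2 := fits_of_ok _ _ tab_fitsOK

end CfsgLib.Chev.G2
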