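import Cfsg.Agent.Chev.Checks
import Cfsg.Agent.Chev.Tab.G2

/-! Combinatorial data for type G2 (generated). -/

set_option autoImplicit false
set_option maxRecDepth 100000

namespace CfsgLib.Chev.G2

/-- combinatorial data -/
def data : Data where
  tab := tab
  npos := 6
  simp8 := 0x607
  refl := .node (.leaf 0xb060809040a010702030500) (.leaf 0xa0b09070805060304020001)
  sgn := .node (.leaf 0x696) (.leaf 0x969)
  height := 0x4000000032400000003140000000214000000011400000001040000000013fffffffff3ffffffff03fffffffef3fffffffdf3fffffffcf3fffffffce
  shift := 274877906944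
  reps := [9, 11]
  path := 0x11000010021020031030041050040051
  basePairs := [(9, 11), (9, 8), (9, 6), (9, 4), (9, 1), (11, 10), (11, 9), (11, 7), (11, 5), (11, 3)]
  stabPaths := [(9, 0x11000000011000011000011000000011), (11, 0x10000010000010000010010000)]

end CfsgLib.Chev.G2
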